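import Mathlib

/-!
# Quasi-finite points of a fibre and étale base change with trivial residue extension
-/

set_option autoImplicit false
universe u

open TensorProduct PrimeSpectrum

namespace GrothLib.EtQF

variable {R : Type u} [CommRing R] {S : Type u} [CommRing S] [Algebra R S]

/-- The quasi-finite primes over `p`. -/
def qfSet (S : Type u) [CommRing S] [Algebra R S] (p : Ideal R) : Set (PrimeSpectrum S) :=
  {q | q.asIdeal.LiesOver p ∧ Algebra.QuasiFiniteAt R q.asIdeal}

theorem finite_qfSet [Algebra.FiniteType R S] (p : Ideal R) [p.IsPrime] :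
    (qfSet S p).Finite := by
  haveI : IsNoetherianRing (p.Fiber S) :=
    Algebra.FiniteType.isNoetherianRing p.ResidueField _
  let e := PrimeSpectrum.primesOverOrderIsoFiber R S p
  let g : qfSet S p → minimalPrimes (p.Fiber S) := fun q =>
    ⟨(e ⟨q.1.asIdeal, q.1.isPrime, q.2.1⟩).asIdeal, by
      refine ⟨⟨(e _).isPrime, bot_le⟩, fun J hJ hJle => ?_⟩
      let x : PrimeSpectrum (p.Fiber S) := ⟨J, hJ.1⟩
      have hx : (e.symm x).1 ≤ q.1.asIdeal := by
        have := e.symm.monotone (show x ≤ e ⟨q.1.asIdeal, q.1.isPrime, q.2.1⟩ from hJle)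
        rw [OrderIso.symm_apply_apply] at this
        exact this
      haveI := q.2.2
      haveI := (e.symm x).2.1
      have heq : (e.symm x).1 = q.1.asIdeal :=
        Algebra.QuasiFiniteAt.eq_of_le_of_under_eq (R := R) hx
          ((e.symm x).2.2.over.symm.trans q.2.1.over)
      have : e.symm x = ⟨q.1.asIdeal, q.1.isPrime, q.2.1⟩ := Subtype.ext heq
      exact le_of_eq (congrArg PrimeSpectrum.asIdeal ((e.symm_apply_eq).1 this)).symm⟩
  haveI : Finite (minimalPrimes (p.Fiber S)) :=
    (minimalPrimes.finite_of_isNoetherianRing _).to_subtype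
  haveI : Finite (qfSet S p) := Finite.of_injective g fun a b h => by
    have h' := e.injective (PrimeSpectrum.ext (congrArg Subtype.val h))
    exact Subtype.ext (PrimeSpectrum.ext (congrArg Subtype.val h'))
  exact Set.toFinite _

/-- Quasi-finite points descend along étale-local base change with trivial residue extension. -/
theorem quasiFiniteAt_descend {R' : Type u} [CommRing R'] [Algebra R R'] [Algebra.FiniteType R S]
    {p : Ideal R} [p.IsPrime] {P : Ideal R'} [P.IsPrime] [P.LiesOver p]
    (H : Function.Bijective (Ideal.ResidueField.mapₐ p P (Algebra.ofId _ _) (P.over_def p)))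
    (Q : Ideal (R' ⊗[R] S)) [Q.IsPrime] [Q.LiesOver P] [Algebra.QuasiFiniteAt R' Q] :
    Algebra.QuasiFiniteAt R (Q.comap Algebra.TensorProduct.includeRight.toRingHom) := by
  letI := Localization.AtPrime.algebraOfLiesOver p P
  let eA : P.Fiber (R' ⊗[R] S) ≃ₐ[p.ResidueField] p.Fiber S :=
    ((Algebra.TensorProduct.cancelBaseChange _ _ P.ResidueField _ _).restrictScalars _).trans
      (Algebra.TensorProduct.congr (.symm <| .ofBijective (Algebra.ofId _ _) H) .refl)
  let qT : P.primesOver (R' ⊗[R] S) := ⟨Q, ‹_›, ‹_›⟩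
  let qF : PrimeSpectrum (P.Fiber (R' ⊗[R] S)) := PrimeSpectrum.primesOverOrderIsoFiber R' _ P qT
  haveI : Algebra.QuasiFiniteAt P.ResidueField qF.asIdeal := .baseChange Q _
    congr($((PrimeSpectrum.primesOverOrderIsoFiber R' _ P).symm_apply_apply qT).1).symm
  have hopen : IsOpen {qF} :=
    (Algebra.QuasiFiniteAt.isClopen_singleton (R := P.ResidueField) qF).isOpen
  let h := PrimeSpectrum.homeomorphOfRingEquiv eA.toRingEquiv
  have hopen' : IsOpen {h qF} := by
    rw [← Set.image_singleton, h.isOpen_image]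
    exact hopen
  haveI : Algebra.QuasiFiniteAt p.ResidueField (h qF).asIdeal :=
    Algebra.QuasiFiniteAt.of_isOpen_singleton _ hopen'
  let qS := Ideal.fiberIsoOfBijectiveResidueField H qT
  have hqS : qS.1 = Q.comap Algebra.TensorProduct.includeRight.toRingHom :=
    Ideal.comap_fiberIsoOfBijectiveResidueField_apply H qT
  haveI : (Q.comap Algebra.TensorProduct.includeRight.toRingHom).LiesOver p := hqS ▸ qS.2.2
  refine Algebra.QuasiFiniteAt.of_quasiFiniteAt_residueField p _ (h qF).asIdeal ?_
  exact hqS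

/-- An idempotent in `r` disappears in the localisation at `r`. -/
theorem quasiFiniteAt_of_quotient {T : Type u} [CommRing T] [Algebra R T] {e : T}
    (he : IsIdempotentElem e) (r : Ideal (T ⧸ Ideal.span {e})) [r.IsPrime]
    [Algebra.QuasiFiniteAt R r] :
    Algebra.QuasiFiniteAt R (r.comap (Ideal.Quotient.mk (Ideal.span {e}))) := by
  let r' := r.comap (Ideal.Quotient.mk (Ideal.span {e}))
  have her : e ∈ r' := by
    rw [Ideal.mem_comap, Ideal.Quotient.eq_zero_iff_mem.2 (Ideal.mem_span_singleton_self e)]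
    exact r.zero_mem
  have he0 : algebraMap T (Localization.AtPrime r') e = 0 := by
    rw [IsLocalization.map_eq_zero_iff r'.primeCompl]
    exact ⟨⟨1 - e, fun h => ‹r.IsPrime›.comap (Ideal.Quotient.mk (Ideal.span {e})) |>.one_notMem
      (by have := add_mem h her; rwa [sub_add_cancel] at this)⟩, by simp [sub_mul, he.eq]⟩
  let φ : (T ⧸ Ideal.span {e}) →ₐ[R] Localization.AtPrime r' :=
    Ideal.Quotient.liftₐ _ (IsScalarTower.toAlgHom R T _) fun a ha => by
      obtain ⟨c, rfl⟩ := Ideal.mem_span_singleton'.1 ha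
      show algebraMap T _ (c * e) = 0
      rw [map_mul, he0, mul_zero]
  have hu : ∀ y : r.primeCompl, IsUnit (φ y) := by
    rintro ⟨y, hy⟩
    obtain ⟨t, rfl⟩ := Ideal.Quotient.mk_surjective y
    exact IsLocalization.map_units (Localization.AtPrime r') (⟨t, hy⟩ : r'.primeCompl)
  refine Algebra.QuasiFinite.of_surjective_algHom (R := R)
    (IsLocalization.liftAlgHom (S := Localization.AtPrime r) (f := φ) hu) fun z => ?_
  obtain ⟨t, ⟨s, hs⟩, rfl⟩ := IsLocalization.exists_mk'_eq r'.primeCompl z
  refine ⟨IsLocalization.mk' (M := r.primeCompl) _ (Ideal.Quotient.mk _ t)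
    ⟨Ideal.Quotient.mk _ s, hs⟩, ?_⟩
  rw [IsLocalization.liftAlgHom_apply, IsLocalization.lift_mk'_spec]
  show algebraMap T _ t = algebraMap T _ s * _
  exact (IsLocalization.mk'_spec' (Localization.AtPrime r') t ⟨s, hs⟩).symm

end GrothLib.EtQF
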