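import Groth.Agent.Lib.EtQF.Basic
import Groth.Agent.Lib.EtLocal.Affine

/-!
# Étale decomposition at all quasi-finite points of a fibre
-/

set_option autoImplicit false
universe u

open TensorProduct

namespace GrothLib.EtQF

variable (R : Type u) [CommRing R]

/-- The decomposition at the quasi-finite points over `p`. -/
def Decomp (S : Type u) [CommRing S] [Algebra R S] (p : Ideal R) [p.IsPrime] : Prop :=
  ∃ (R' : Type u) (_ : CommRing R') (_ : Algebra R R') (_ : Algebra.Etale R R') (P : Ideal R')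
    (_ : P.IsPrime) (_ : P.LiesOver p) (n : ℕ) (A : Fin n → Type u) (_ : ∀ i, CommRing (A i))
    (_ : ∀ i, Algebra R' (A i)) (B : Type u) (_ : CommRing B) (_ : Algebra R' B),
    Function.Bijective (Ideal.ResidueField.mapₐ p P (Algebra.ofId _ _) (P.over_def p)) ∧
    Nonempty ((R' ⊗[R] S) ≃ₐ[R'] ((∀ i, A i) × B)) ∧
      (∀ i, Module.Finite R' (A i) ∧
        ∃! r : Ideal (A i), r.IsPrime ∧ r.comap (algebraMap R' (A i)) = P) ∧
      ∀ (q : Ideal B) [q.IsPrime], q.comap (algebraMap R' B) = P →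
        ¬ Algebra.QuasiFiniteAt R' q

variable {R}

/-- A product indexed by `Fin (n + 1)`. -/
noncomputable def consAlgEquiv {R' : Type u} [CommRing R'] {n : ℕ} (A : Fin (n + 1) → Type u)
    [∀ i, CommRing (A i)] [∀ i, Algebra R' (A i)] :
    (A 0 × ((i : Fin n) → A i.succ)) ≃ₐ[R'] ((i : Fin (n + 1)) → A i) :=
  AlgEquiv.ofBijective
    (AlgHom.mk (RingHom.mk
      ⟨⟨fun x => Fin.cons x.1 x.2, funext (Fin.cases rfl fun _ => rfl)⟩,
        fun x y => funext (Fin.cases rfl fun _ => rfl)⟩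
      (funext (Fin.cases rfl fun _ => rfl)) (fun x y => funext (Fin.cases rfl fun _ => rfl)))
      fun c => funext (Fin.cases rfl fun _ => rfl))
    ⟨fun x y h => Prod.ext (congrFun h 0) (funext fun i => congrFun h i.succ),
      fun f => ⟨(f 0, fun i => f i.succ), funext (Fin.cases rfl fun _ => rfl)⟩⟩

/-- Reassociation of a triple product. -/
noncomputable def assocAlgEquiv {R' : Type u} [CommRing R'] (X Y Z : Type u) [CommRing X] [CommRing Y]
    [CommRing Z] [Algebra R' X] [Algebra R' Y] [Algebra R' Z] : (X × Y × Z) ≃ₐ[R'] (X × Y) × Z :=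
  AlgEquiv.ofBijective
    (((AlgHom.fst R' X (Y × Z)).prod ((AlgHom.fst R' Y Z).comp (AlgHom.snd R' X (Y × Z)))).prod
      ((AlgHom.snd R' Y Z).comp (AlgHom.snd R' X (Y × Z))))
    ⟨fun a b h => by
        obtain ⟨x, y, z⟩ := a
        obtain ⟨x', y', z'⟩ := b
        simpa [and_assoc] using h,
      fun z => ⟨(z.1.1, z.1.2, z.2), rfl⟩⟩

theorem decomp_of_eq_empty {S : Type u} [CommRing S] [Algebra R S] (p : Ideal R) [p.IsPrime]
    (h : qfSet S p = ∅) : Decomp R S p := by
  letI : ∀ i : Fin 0, CommRing ((fun i : Fin 0 => PUnit.{u + 1}) i) := fun i => i.elim0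
  letI : ∀ i : Fin 0, Algebra R ((fun i : Fin 0 => PUnit.{u + 1}) i) := fun i => i.elim0
  refine ⟨R, inferInstance, inferInstance, inferInstance, p, inferInstance, ⟨rfl⟩, 0,
    fun i => PUnit.{u + 1}, fun i => i.elim0, fun i => i.elim0, S, inferInstance, inferInstance,
    ?_, ⟨?_⟩, fun i => i.elim0, fun q hq hqp hqf => ?_⟩
  · rw! [Algebra.ofId_self, Ideal.ResidueField.mapₐ_id]; exact Function.bijective_id
  · exact (Algebra.TensorProduct.lid R S).trans
      (AlgEquiv.ofBijective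
        (AlgHom.prod (Pi.algHom R _ fun i : Fin 0 => i.elim0) (AlgHom.id R S))
        ⟨fun x y hxy => congrArg Prod.snd hxy,
          fun z => ⟨z.2, Prod.ext (funext fun i => i.elim0) rfl⟩⟩)
  · exact (h.le (show (⟨q, hq⟩ : PrimeSpectrum S) ∈ qfSet S p from ⟨⟨hqp.symm⟩, hqf⟩)).elim

theorem decomp_step {S : Type u} [CommRing S] [Algebra R S] (p : Ideal R) [p.IsPrime]
    {R' : Type u} [CommRing R'] [Algebra R R'] [Algebra.Etale R R'] (P : Ideal R') [P.IsPrime]
    [P.LiesOver p]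
    (hpP : Function.Bijective (Ideal.ResidueField.mapₐ p P (Algebra.ofId _ _) (P.over_def p)))
    (A₁ : Type u) [CommRing A₁] [Algebra R' A₁] [Module.Finite R' A₁]
    (hA₁ : ∃! r : Ideal A₁, r.IsPrime ∧ r.comap (algebraMap R' A₁) = P)
    (S₁ : Type u) [CommRing S₁] [Algebra R' S₁] (E : R' ⊗[R] S ≃ₐ[R'] A₁ × S₁)
    (ih : Decomp R' S₁ P) : Decomp R S p := by
  obtain ⟨R'', i1, i2, i3, Q, i4, i5, n, A, iA, iA', B, iB, iB', hPQ, ⟨F⟩, hA, hB⟩ := ih
  letI : Algebra R R'' := Algebra.compHom _ (algebraMap R R')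
  haveI : IsScalarTower R R' R'' := .of_algebraMap_eq' rfl
  haveI : Q.LiesOver p := .trans _ P _
  have hpQ : Function.Bijective (Ideal.ResidueField.mapₐ p Q (Algebra.ofId _ _) (Q.over_def p)) := by
    convert hPQ.comp hpP
    rw [← @AlgHom.coe_restrictScalars' R R', ← AlgHom.coe_comp]; congr 1; ext
  let A' : Fin (n + 1) → Type u := Fin.cons (R'' ⊗[R'] A₁) A
  letI instA : ∀ i, CommRing (A' i) :=
    Fin.cases (inferInstance : CommRing (R'' ⊗[R'] A₁)) fun i => iA i
  letI instA' : ∀ i, Algebra R'' (A' i) :=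
    Fin.cases (inferInstance : Algebra R'' (R'' ⊗[R'] A₁)) fun i => iA' i
  refine ⟨R'', i1, inferInstance, Algebra.Etale.comp R R' R'', Q, i4, ‹_›, n + 1, A', instA, instA',
    B, iB, iB', hpQ, ⟨?_⟩, ?_, hB⟩
  · refine ((Algebra.TensorProduct.cancelBaseChange R R' R'' R'' S).symm.trans
      (Algebra.TensorProduct.congr AlgEquiv.refl E)).trans ?_
    refine (Algebra.TensorProduct.prodRight R' R'' R'' A₁ S₁).trans ?_
    refine (AlgEquiv.prodCongr AlgEquiv.refl F).trans ?_
    refine (assocAlgEquiv (R'' ⊗[R'] A₁) ((i : Fin n) → A i) B).trans ?_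
    exact AlgEquiv.prodCongr (consAlgEquiv A') AlgEquiv.refl
  · refine Fin.cases ⟨(inferInstance : Module.Finite R'' (R'' ⊗[R'] A₁)), ?_⟩ fun i => hA i
    obtain ⟨r₀, ⟨hr₀, hr₀P⟩, huniq⟩ := hA₁
    haveI : r₀.LiesOver P := ⟨hr₀P.symm⟩
    let F₁ := Ideal.fiberIsoOfBijectiveResidueField hPQ (S := A₁)
    let z := F₁.symm ⟨r₀, hr₀, inferInstance⟩
    refine ⟨z.1, ⟨z.2.1, z.2.2.over.symm⟩, fun w hw => ?_⟩
    have h1 : F₁ ⟨w, hw.1, ⟨hw.2.symm⟩⟩ = ⟨r₀, hr₀, inferInstance⟩ :=
      Subtype.ext (huniq _ ⟨(F₁ _).2.1, (F₁ _).2.2.over.symm⟩)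
    exact congrArg Subtype.val (F₁.eq_symm_apply.2 h1)

theorem decomp (S : Type u) [CommRing S] [Algebra R S] [Algebra.FiniteType R S] (p : Ideal R)
    [p.IsPrime] : Decomp R S p := by
  induction h : (qfSet S p).ncard using Nat.strong_induction_on generalizing R S with
  | h N IH =>
  rcases (qfSet S p).eq_empty_or_nonempty with h0 | ⟨q, hq, hqf⟩
  · exact decomp_of_eq_empty p h0
  haveI := hq
  haveI := hqf
  obtain ⟨R', _, _, _, P, _, _, e, he, P', _, _, hP'q, heP', hpP, hfin, H⟩ :=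
    Algebra.exists_etale_isIdempotentElem_forall_liesOver_eq p q.asIdeal
  let T := R' ⊗[R] S
  haveI : Algebra.FiniteType R' ((R' ⊗[R] S) ⧸ Ideal.span {e}) :=
    Algebra.FiniteType.of_surjective (Ideal.Quotient.mkₐ R' _) Ideal.Quotient.mk_surjective
  -- the finite factor
  let A₁ := (R' ⊗[R] S) ⧸ Ideal.span {1 - e}
  have hu : IsUnit (algebraMap (R' ⊗[R] S) A₁ e) := by
    have h1 : algebraMap (R' ⊗[R] S) A₁ e = 1 :=
      ((Ideal.Quotient.mk_eq_mk_iff_sub_mem _ _).2
        (by rw [show e - 1 = -(1 - e) by ring]; exact neg_mem (Ideal.mem_span_singleton_self _))).trans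
        (map_one _)
    rw [h1]; exact isUnit_one
  haveI : Module.Finite R' A₁ := by
    let f : Localization.Away e →ₐ[R' ⊗[R] S] A₁ :=
      IsLocalization.Away.liftAlgHom e (f := Algebra.ofId _ _) hu
    refine Module.Finite.of_surjective (f.restrictScalars R').toLinearMap fun z => ?_
    obtain ⟨t, rfl⟩ := Ideal.Quotient.mk_surjective z
    exact ⟨algebraMap _ _ t, f.commutes t⟩
  have hA₁ : ∃! r : Ideal A₁, r.IsPrime ∧ r.comap (algebraMap R' A₁) = P := by
    have hle : Ideal.span {1 - e} ≤ P' := by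
      rw [Ideal.span_singleton_le_iff_mem]
      refine (Ideal.IsPrime.mem_or_mem inferInstance ?_).resolve_left heP'
      rw [mul_sub, mul_one, he.eq, sub_self]
      exact P'.zero_mem
    refine ⟨P'.map (Ideal.Quotient.mk _), ⟨Ideal.map_isPrime_of_surjective Ideal.Quotient.mk_surjective
      (by rwa [Ideal.mk_ker]), ?_⟩, fun r hr => ?_⟩
    · rw [← Ideal.Quotient.mk_comp_algebraMap, ← Ideal.comap_comap,
        Ideal.comap_map_of_surjective' _ Ideal.Quotient.mk_surjective, Ideal.mk_ker, sup_eq_left.2 hle]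
      exact (P'.over_def P).symm
    · haveI := hr.1
      have h1 : r.comap (Ideal.Quotient.mk (Ideal.span {1 - e})) = P' := by
        refine H _ inferInstance ⟨?_⟩ fun hmem => hr.1.ne_top
          (Ideal.eq_top_of_isUnit_mem _ hmem hu)
        rw [Ideal.under, Ideal.comap_comap, Ideal.Quotient.mk_comp_algebraMap, hr.2]
      rw [← h1, Ideal.map_comap_of_surjective _ Ideal.Quotient.mk_surjective]
  -- the split
  have hbij := GrothLib.EtLocal.piProdHom_bijective (R' := R') (fun _ : Fin 1 => e) (fun _ => he)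
    (fun a b h => absurd (Subsingleton.elim a b) h)
  let E := (AlgEquiv.ofBijective _ hbij).trans (AlgEquiv.prodCongr
    (AlgEquiv.funUnique R' (Fin 1) _)
    (Ideal.quotientEquivAlgOfEq R' (show Ideal.span {∑ _ : Fin 1, e} = Ideal.span {e} by simp)))
  refine decomp_step p P hpP A₁ hA₁ _ E (IH _ ?_ (R := R') _ P rfl)
  -- fewer quasi-finite points remain
  rw [← h]
  let S₁ := (R' ⊗[R] S) ⧸ Ideal.span {e}
  let g : PrimeSpectrum S₁ → PrimeSpectrum S := fun r =>
    PrimeSpectrum.comap (Algebra.TensorProduct.includeRight : S →ₐ[R] R' ⊗[R] S).toRingHom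
      (PrimeSpectrum.comap (Ideal.Quotient.mk (Ideal.span {e})) r)
  have hover : ∀ r ∈ qfSet S₁ P, (r.asIdeal.comap (Ideal.Quotient.mk (Ideal.span {e}))).LiesOver P :=
    fun r hr => ⟨by
      rw [Ideal.under, Ideal.comap_comap, Ideal.Quotient.mk_comp_algebraMap]
      exact hr.1.over⟩
  have hinj : Set.InjOn g (qfSet S₁ P) := by
    intro a ha b hb hab
    haveI := hover a ha
    haveI := hover b hb
    refine PrimeSpectrum.ext (Ideal.comap_injective_of_surjective _ Ideal.Quotient.mk_surjective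
      (Ideal.eq_of_comap_eq_comap_of_bijective_residueFieldMap hpP
        (a.asIdeal.comap (Ideal.Quotient.mk _)) (b.asIdeal.comap (Ideal.Quotient.mk _)) ?_))
    exact congrArg PrimeSpectrum.asIdeal hab
  have hsub : g '' qfSet S₁ P ⊆ qfSet S p \ {q} := by
    rintro _ ⟨r, hr, rfl⟩
    haveI := hover r hr
    haveI := hr.2
    haveI : Algebra.QuasiFiniteAt R' (r.asIdeal.comap (Ideal.Quotient.mk (Ideal.span {e}))) :=
      quasiFiniteAt_of_quotient he r.asIdeal
    refine ⟨⟨?_, quasiFiniteAt_descend hpP (r.asIdeal.comap (Ideal.Quotient.mk (Ideal.span {e})))⟩, fun heq => ?_⟩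
    · exact ((Ideal.fiberIsoOfBijectiveResidueField hpP
        ⟨r.asIdeal.comap (Ideal.Quotient.mk _), inferInstance, inferInstance⟩).2.2).over
          |> fun h => ⟨h.trans (by rw [Ideal.comap_fiberIsoOfBijectiveResidueField_apply]; rfl)⟩
    · have h1 : r.asIdeal.comap (Ideal.Quotient.mk (Ideal.span {e})) = P' :=
        Ideal.eq_of_comap_eq_comap_of_bijective_residueFieldMap hpP _ _
          ((congrArg PrimeSpectrum.asIdeal heq).trans hP'q.symm)
      refine heP' (h1 ▸ ?_)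
      rw [Ideal.mem_comap, Ideal.Quotient.eq_zero_iff_mem.2 (Ideal.mem_span_singleton_self e)]
      exact r.asIdeal.zero_mem
  have hfinite := finite_qfSet (S := S) p
  calc (qfSet S₁ P).ncard = (g '' qfSet S₁ P).ncard := hinj.ncard_image.symm
    _ ≤ (qfSet S p \ {q}).ncard := Set.ncard_le_ncard hsub hfinite.sdiff
    _ < (qfSet S p).ncard := Set.ncard_sdiff_singleton_lt_of_mem ⟨hq, hqf⟩ hfinite

end GrothLib.EtQF
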